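import Mathlib

/-!
Maps of an affine space over a prime field that agree on every triple of points with an affine map.
-/

set_option autoImplicit false

namespace Cfsg.Agent.ThreeClosed

variable {p : ℕ} [Fact p.Prime] {V : Type*} [AddCommGroup V] [Module (ZMod p) V]

/-- For odd `p`, a map fixing `0` and agreeing on each triple with an affine map is additive. -/
theorem map_add_of_three (hp : p ≠ 2) (f : V → V) (hf0 : f 0 = 0)
    (h : ∀ x y z : V, ∃ (A : V →ₗ[ZMod p] V) (b : V), f x = A x + b ∧ f y = A y + b ∧ f z = A z + b)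
    (x y : V) : f (x + y) = f x + f y := by
  have h2 : (2 : ZMod p) ≠ 0 := fun h2 => hp <|
    ((Nat.prime_dvd_prime_iff_eq (Fact.out : p.Prime) Nat.prime_two).mp
      ((ZMod.natCast_eq_zero_iff 2 p).mp (by exact_mod_cast h2)))
  set z := (2 : ZMod p)⁻¹ • (x + y) with hz
  obtain ⟨A, b, hx, hy, hz'⟩ := h x y z
  obtain ⟨B, c, h0, hzB, hs⟩ := h 0 z (x + y)
  have hc : c = 0 := by simpa [hf0] using h0.symm
  subst hc
  rw [add_zero] at hzB hs
  have e1 : f (x + y) = (2 : ZMod p) • f z := by
    rw [hs, hzB, hz, map_smul, smul_smul, mul_inv_cancel₀ h2, one_smul]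
  rw [e1, hz', hx, hy, hz, map_smul, map_add, smul_add (2 : ZMod p), smul_smul,
    mul_inv_cancel₀ h2, one_smul, two_smul]
  abel

/-- For odd `p`, a permutation agreeing on each triple with an affine map is affine. -/
theorem exists_affine_of_three (hp : p ≠ 2) (σ : V → V) (hσ : Function.Bijective σ)
    (h : ∀ x y z : V, ∃ (A : V →ₗ[ZMod p] V) (b : V), σ x = A x + b ∧ σ y = A y + b ∧ σ z = A z + b) :
    ∃ (A : V ≃ₗ[ZMod p] V) (b : V), ∀ x, σ x = A x + b := by
  let f : V →+ V := AddMonoidHom.mk' (fun x => σ x - σ 0)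
    (map_add_of_three hp (fun x => σ x - σ 0) (sub_self _) fun x y z => by
      obtain ⟨A, b, h1, h2, h3⟩ := h x y z
      exact ⟨A, b - σ 0, by show σ x - σ 0 = _; rw [h1]; abel,
        by show σ y - σ 0 = _; rw [h2]; abel, by show σ z - σ 0 = _; rw [h3]; abel⟩)
  refine ⟨LinearEquiv.ofBijective (f.toZModLinearMap p) ?_, σ 0, fun x => ?_⟩
  · exact ((Equiv.subRight (σ 0)).bijective.comp hσ :)
  · show σ x = σ x - σ 0 + σ 0
    rw [sub_add_cancel]

end Cfsg.Agent.ThreeClosed
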